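import Cfsg.Agent.H399.Base

/-!
# Groups `R = Q Q'` with two elementary abelian subgroups; extensions of index 2
-/

set_option autoImplicit false

open Pointwise

namespace Cfsg.Agent.H391.Five

open Cfsg.Agent.H399

variable {G : Type*} [Group G]

theorem comm_of_sq {V : Subgroup G} (h : ∀ v ∈ V, v * v = 1) {v w : G} (hv : v ∈ V) (hw : w ∈ V) :
    v * w = w * v := by
  have h2 : v * w = (v * w)⁻¹ := (inv_eq_of_mul_eq_one_left (h _ (V.mul_mem hv hw))).symm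
  rwa [mul_inv_rev, inv_eq_of_mul_eq_one_left (h v hv), inv_eq_of_mul_eq_one_left (h w hw)] at h2

theorem conj_mem_of_Nm {x k : G} {X : Subgroup G} (hx : x ∈ Nm X) (hk : k ∈ X) : x * k * x⁻¹ ∈ X := by
  have := cj_of_mem_Nm hx
  rw [← this]
  exact conj_mem_cj.2 hk

theorem le_Nm_of {H X : Subgroup G} {x k : G} (h : H ≤ Nm X) (hx : x ∈ H) (hk : k ∈ X) : x * k * x⁻¹ ∈ X :=
  conj_mem_of_Nm (h hx) hk

/-- `R = Q Q'`, where `Q`, `Q'` are elementary abelian 2-groups and elements of `Q` and `Q'` outside of `Q ∩ Q'` do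
not commute. -/
structure EE (Q Q' R : Subgroup G) : Prop where
  sq : ∀ x ∈ Q, x * x = 1
  sq' : ∀ x ∈ Q', x * x = 1
  le : Q ≤ R
  le' : Q' ≤ R
  ex : ∀ x ∈ R, ∃ a ∈ Q, ∃ b ∈ Q', x = a * b
  ne : ∀ a ∈ Q, ∀ b ∈ Q', a * b = b * a → a ∈ Q' ∨ b ∈ Q

namespace EE

variable {Q Q' R : Subgroup G} (h : EE Q Q' R)

include h

theorem symm : EE Q' Q R where
  sq := h.sq'
  sq' := h.sq
  le := h.le'
  le' := h.le
  ex x hx := by
    obtain ⟨a, ha, b, hb, hab⟩ := h.ex x⁻¹ (R.inv_mem hx)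
    refine ⟨b⁻¹, Q'.inv_mem hb, a⁻¹, Q.inv_mem ha, ?_⟩
    rw [← mul_inv_rev, ← hab, inv_inv]
  ne a ha b hb hab := (h.ne b hb a ha hab.symm).symm

theorem comm {x y : G} (hx : x ∈ Q) (hy : y ∈ Q) : x * y = y * x := comm_of_sq h.sq hx hy

theorem comm' {x y : G} (hx : x ∈ Q') (hy : y ∈ Q') : x * y = y * x := comm_of_sq h.sq' hx hy

theorem central {z x : G} (hz : z ∈ Q) (hz' : z ∈ Q') (hx : x ∈ R) : z * x = x * z := by
  obtain ⟨a, ha, b, hb, rfl⟩ := h.ex x hx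
  rw [← mul_assoc, h.comm hz ha, mul_assoc, h.comm' hz' hb, mul_assoc]

theorem invol {x : G} (hx : x ∈ R) (hxx : x * x = 1) : x ∈ Q ∨ x ∈ Q' := by
  obtain ⟨a, ha, b, hb, rfl⟩ := h.ex x hx
  have h1 : a * b = b * a := by
    have h2 : a * b = (a * b)⁻¹ := (inv_eq_of_mul_eq_one_left hxx).symm
    rwa [mul_inv_rev, inv_eq_of_mul_eq_one_left (h.sq a ha), inv_eq_of_mul_eq_one_left (h.sq' b hb)] at h2
  rcases h.ne a ha b hb h1 with h3 | h3
  · exact Or.inr (Q'.mul_mem h3 hb)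
  · exact Or.inl (Q.mul_mem ha h3)

theorem elem {E : Subgroup G} (hE : E ≤ R) (hsq : ∀ x ∈ E, x * x = 1) : E ≤ Q ∨ E ≤ Q' := by
  by_contra hcon
  push Not at hcon
  obtain ⟨x, hx, hxQ⟩ := Set.not_subset.1 hcon.1
  obtain ⟨y, hy, hyQ⟩ := Set.not_subset.1 hcon.2
  have hx' : x ∈ Q' := (h.invol (hE hx) (hsq x hx)).resolve_left hxQ
  have hy' : y ∈ Q := (h.invol (hE hy) (hsq y hy)).resolve_right hyQ
  rcases h.invol (hE (E.mul_mem hx hy)) (hsq _ (E.mul_mem hx hy)) with h1 | h1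
  · exact hxQ ((Q.mul_mem_cancel_right hy').1 h1)
  · exact hyQ ((Q'.mul_mem_cancel_left hx').1 h1)

/-- centralisers of elements of `Q` outside of `Q'` -/
theorem cent {w x : G} (hw : w ∈ Q) (hw' : w ∉ Q') (hx : x ∈ R) (hc : x * w = w * x) : x ∈ Q := by
  obtain ⟨a, ha, b, hb, rfl⟩ := h.ex x hx
  have h1 : w * b = b * w := by
    have h2 : a * (b * w) = a * (w * b) := by
      rw [← mul_assoc, hc, ← mul_assoc, h.comm hw ha, mul_assoc]
    exact (mul_left_cancel h2).symm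
  rcases h.ne w hw b hb h1 with h3 | h3
  · exact absurd h3 hw'
  · exact Q.mul_mem ha h3

end EE

/-! ### extensions of index 2 -/

theorem mem_ext {H : Subgroup G} {t x : G} (ht : t ∈ Nm H) (htt : t * t ∈ H) :
    x ∈ Subgroup.zpowers t ⊔ H ↔ x ∈ H ∨ x * t ∈ H := by
  have hle : Subgroup.zpowers t ≤ Nm H := by
    rw [Subgroup.zpowers_le]
    exact ht
  have h0 : ∀ i : ℤ, (t * t) ^ i ∈ H := fun i => H.zpow_mem htt i
  constructor
  · intro hx
    obtain ⟨_, ⟨i, rfl⟩, y, hy, rfl⟩ := (mul_mem_sup_iff hle).1 hx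
    show t ^ i * y ∈ H ∨ t ^ i * y * t ∈ H
    rcases Int.even_or_odd' i with ⟨j, rfl | rfl⟩
    · left
      rw [zpow_mul, zpow_two]
      exact H.mul_mem (h0 j) hy
    · right
      have h1 : t ^ (2 * j + 1) * y * t = (t * t) ^ j * ((t * y * t⁻¹) * (t * t)) := by
        rw [zpow_add, zpow_mul, zpow_two, zpow_one]
        group
      rw [h1]
      exact H.mul_mem (h0 j) (H.mul_mem (conj_mem_of_Nm ht hy) htt)
  · rintro (hx | hx)
    · exact Subgroup.mem_sup_right hx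
    · have h1 : x = (x * t) * t⁻¹ := by group
      rw [h1]
      exact Subgroup.mul_mem _ (Subgroup.mem_sup_right hx)
        (Subgroup.inv_mem _ (Subgroup.mem_sup_left (Subgroup.mem_zpowers t)))

theorem relIndex_ext {H : Subgroup G} {t : G} (ht : t ∈ Nm H) (htt : t * t ∈ H) (htH : t ∉ H) :
    H.relIndex (Subgroup.zpowers t ⊔ H) = 2 := by
  show (H.subgroupOf _).index = 2
  rw [Subgroup.index_eq_two_iff]
  refine ⟨⟨t, Subgroup.mem_sup_left (Subgroup.mem_zpowers t)⟩, fun b => ?_⟩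
  rw [Subgroup.mem_subgroupOf, Subgroup.mem_subgroupOf]
  show Xor ((b : G) * t ∈ H) ((b : G) ∈ H)
  have hex : ¬ ((b : G) * t ∈ H ∧ (b : G) ∈ H) := by
    rintro ⟨h3, h4⟩
    exact htH ((H.mul_mem_cancel_left h4).1 h3)
  rcases (mem_ext ht htt).1 b.2 with h3 | h3
  · exact Or.inr ⟨h3, fun h4 => hex ⟨h4, h3⟩⟩
  · exact Or.inl ⟨h3, fun h4 => hex ⟨h3, h4⟩⟩

theorem card_ext {H : Subgroup G} {t : G} (ht : t ∈ Nm H) (htt : t * t ∈ H) (htH : t ∉ H) :
    Nat.card ↥(Subgroup.zpowers t ⊔ H) = 2 * Nat.card H := by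
  have h1 := card_mul_relIndex (le_sup_right : H ≤ Subgroup.zpowers t ⊔ H)
  rw [relIndex_ext ht htt htH] at h1
  omega

/-- products of two elements outside of a subgroup of index 2 -/
theorem mul_mem_of_two {H K : Subgroup G} (hHK : H.relIndex K = 2) {x y : G} (hx : x ∈ K) (hy : y ∈ K) (hx' : x ∉ H)
    (hy' : y ∉ H) : x * y ∈ H := by
  have h3 := Subgroup.mul_mem_iff_of_index_two (H := H.subgroupOf K) hHK (a := ⟨x, hx⟩) (b := ⟨y, hy⟩)
  rw [Subgroup.mem_subgroupOf, Subgroup.mem_subgroupOf, Subgroup.mem_subgroupOf] at h3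
  exact h3.2 ⟨fun h => absurd h hx', fun h => absurd h hy'⟩

theorem card_le_two_mul {H K L : Subgroup G} [Finite G] (hHK : H.relIndex K = 2) (hL : L ≤ K) :
    Nat.card L ≤ 2 * Nat.card ↥(H ⊓ L) := by
  have h1 := card_inf_mul_relIndex L H
  have h2 : H.relIndex L ≤ 2 := by
    rw [← hHK]
    exact Subgroup.relIndex_le_of_le_right hL (by rw [hHK]; norm_num)
  nlinarith [Nat.card_pos (α := ↥(H ⊓ L))]

end Cfsg.Agent.H391.Five
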