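import Cfsg.Agent.H391.Five.EE
import Cfsg.Agent.LargeExtra.TransferPow
import Cfsg.Agent.GH.C2GrowJ2B

/-!
# The configuration of order 23040: a fusion argument

`R = Q Q'` of order 256, `T = R⟨g⟩` of order 1024 with `g` of order 4 interchanging `Q` and `Q'`, a Sylow 2-subgroup
of `G`.  Then `G` has a subgroup of index 2.
-/

set_option autoImplicit false

open Pointwise

namespace Cfsg.Agent.H391.Five

open Cfsg.Agent.H399

variable {G : Type*} [Group G]

structure Four (Q Q' R : Subgroup G) (g : G) : Prop extends EE Q Q' R where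
  cQ : Nat.card Q = 64
  cQ' : Nat.card Q' = 64
  cU : Nat.card ↥(Q ⊓ Q') = 16
  cR : Nat.card R = 256
  gQ : cj g Q = Q'
  gQ' : cj g Q' = Q
  gg : g * g * (g * g) = 1
  gR : g ∈ Nm R
  ggR : g * g ∉ R
  cu : Nat.card ↥(Q ⊓ Subgroup.centralizer {g * g}) = 8
  cz : Nat.card ↥(Q ⊓ Q' ⊓ Subgroup.centralizer {g * g}) = 4
  nQ : R ≤ Nm Q
  nQ' : R ≤ Nm Q'

namespace Four

variable {Q Q' R : Subgroup G} {g : G} (h : Four Q Q' R g)

/-- `R⟨g²⟩` -/
abbrev TT (R : Subgroup G) (g : G) : Subgroup G := Subgroup.zpowers (g * g) ⊔ R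

/-- `R⟨g⟩` -/
abbrev S (R : Subgroup G) (g : G) : Subgroup G := Subgroup.zpowers g ⊔ TT R g

include h

theorem toEE' : EE Q Q' R := h.toEE

theorem uR : g * g ∈ Nm R := Subgroup.mul_mem _ h.gR h.gR

theorem uQ : g * g ∈ Nm Q := by
  rw [mem_Nm, cj_mul, h.gQ, h.gQ']

theorem uQ' : g * g ∈ Nm Q' := by
  rw [mem_Nm, cj_mul, h.gQ', h.gQ]

theorem mem_TT {x : G} : x ∈ TT R g ↔ x ∈ R ∨ x * (g * g) ∈ R :=
  mem_ext h.uR (by rw [h.gg]; exact R.one_mem)

theorem rel_TT : R.relIndex (TT R g) = 2 := relIndex_ext h.uR (by rw [h.gg]; exact R.one_mem) h.ggR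

theorem g_TT : g ∈ Nm (TT R g) := by
  apply sup_le_Nm (A := Subgroup.zpowers g)
  · rw [Subgroup.zpowers_le]
    rw [mem_Nm, cj_eq_map, MonoidHom.map_zpowers]
    congr 1
    show g * (g * g) * g⁻¹ = g * g
    group
  · rw [Subgroup.zpowers_le]
    exact h.gR
  · exact Subgroup.mem_zpowers g

theorem gg_TT : g * g ∈ TT R g := Subgroup.mem_sup_left (Subgroup.mem_zpowers _)

theorem g_not_TT : g ∉ TT R g := by
  intro h1
  rcases h.mem_TT.1 h1 with h2 | h2
  · exact h.ggR (R.mul_mem h2 h2)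
  · have h3 : g * (g * g) * (g * (g * g)) ∈ R := R.mul_mem h2 h2
    have h4 : g * (g * g) * (g * (g * g)) = g * g * (g * g) * (g * g) := by group
    rw [h4, h.gg, one_mul] at h3
    exact h.ggR h3

theorem mem_S {x : G} : x ∈ S R g ↔ x ∈ TT R g ∨ x * g ∈ TT R g := mem_ext h.g_TT h.gg_TT

theorem rel_S : (TT R g).relIndex (S R g) = 2 := relIndex_ext h.g_TT h.gg_TT h.g_not_TT

theorem card_S : Nat.card (S R g) = 1024 := by
  rw [S, card_ext h.g_TT h.gg_TT h.g_not_TT, TT, card_ext h.uR (by rw [h.gg]; exact R.one_mem) h.ggR, h.cR]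

theorem conj_g {x : G} : g⁻¹ * x * g ∈ R ↔ x ∈ R := by
  rw [← mem_cj, cj_of_mem_Nm h.gR]

/-- elements of `S` whose square is in `R` -/
theorem mem_TT_of_sq {y : G} (hy : y ∈ S R g) (hyy : y * y ∈ R) : y ∈ TT R g := by
  rcases h.mem_S.1 hy with h1 | h1
  · exact h1
  exfalso
  set s := y * g with hs
  have hy1 : y = s * g⁻¹ := by rw [hs]; group
  have h2 : g⁻¹ * s * g ∈ TT R g := by
    rw [← mem_cj, cj_of_mem_Nm h.g_TT]
    exact h1
  have h3 : s * (g⁻¹ * s * g) ∈ R := by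
    by_cases hsR : s ∈ R
    · exact R.mul_mem hsR (h.conj_g.2 hsR)
    · exact mul_mem_of_two h.rel_TT h1 h2 hsR (fun h4 => hsR (h.conj_g.1 h4))
  have h4 : y * y = s * (g⁻¹ * s * g) * (g * g)⁻¹ := by
    rw [hy1]; group
  rw [h4] at hyy
  exact h.ggR (R.inv_mem_iff.1 ((R.mul_mem_cancel_left h3).1 hyy))

theorem R_le_TT : R ≤ TT R g := le_sup_right

theorem TT_le_S : TT R g ≤ S R g := le_sup_right

theorem TT_le_Nm : TT R g ≤ Nm Q := sup_le (by rw [Subgroup.zpowers_le]; exact h.uQ) h.nQ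

theorem TT_le_Nm' : TT R g ≤ Nm Q' := sup_le (by rw [Subgroup.zpowers_le]; exact h.uQ') h.nQ'

theorem TT_le_NmR : TT R g ≤ Nm R := sup_le (by rw [Subgroup.zpowers_le]; exact h.uR) (self_le_Nm R)

/-- elements of `U = Q ∩ Q'` commuting with an element of `R⟨g²⟩` outside of `R` commute with `g²` -/
theorem comm_u {z v : G} (hz : z ∈ Q) (hz' : z ∈ Q') (hv : v ∈ TT R g) (hvR : v ∉ R) (hc : z * v = v * z) :
    z * (g * g) = g * g * z := by
  have h1 : v * (g * g) ∈ R := (h.mem_TT.1 hv).resolve_left hvR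
  have h2 := h.central hz hz' h1
  have h3 : v * (z * (g * g)) = v * ((g * g) * z) := by
    rw [← mul_assoc, ← hc, mul_assoc, h2, mul_assoc]
  exact mul_left_cancel h3

/-- subgroups of squares 1 of order 64 of `S` lie in `R` -/
theorem le_R_of_card [Finite G] {X : Subgroup G} (hX : X ≤ S R g) (hsq : ∀ x ∈ X, x * x = 1) (hc : Nat.card X = 64) :
    X ≤ R := by
  have hXT : X ≤ TT R g := fun x hx => h.mem_TT_of_sq (hX hx) (by rw [hsq x hx]; exact R.one_mem)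
  by_contra hcon
  obtain ⟨v, hv, hvR⟩ := Set.not_subset.1 hcon
  have h1 := card_le_two_mul h.rel_TT hXT
  have key : ∀ {Y : Subgroup G}, Nat.card Y = 64 → Q ⊓ Q' ≤ Y → R ⊓ X ≤ Y → (∀ y ∈ Y, y * y = 1) → False := by
    intro Y hY hU hXY hY2
    have h2 : R ⊓ X ≤ Nm (Q ⊓ Q') := fun x hx => inf_le_Nm h.nQ h.nQ' hx.1
    have h3 := card_sup h2
    have h4 : Nat.card ↥(R ⊓ X ⊔ Q ⊓ Q') ≤ 64 := by
      rw [← hY]
      exact Subgroup.card_le_of_le (sup_le hXY hU)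
    have h5 : Nat.card ↥(R ⊓ X ⊓ (Q ⊓ Q')) ≤ 4 := by
      rw [← h.cz]
      apply Subgroup.card_le_of_le
      rintro z ⟨⟨hzR, hzX⟩, hzQ, hzQ'⟩
      exact ⟨⟨hzQ, hzQ'⟩, Subgroup.mem_centralizer_singleton_iff.2
        (h.comm_u hzQ hzQ' (hXT hv) hvR (comm_of_sq hsq hzX hv))⟩
    rw [h.cU] at h3
    rw [hc] at h1
    nlinarith
  rcases h.elem (E := R ⊓ X) inf_le_left (fun x hx => hsq x hx.2) with h2 | h2
  · exact key h.cQ inf_le_left h2 h.sq
  · exact key h.cQ' inf_le_right h2 h.sq'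

/-- `C_Q(u)` -/
abbrev E (Q : Subgroup G) (g : G) : Subgroup G := Q ⊓ Subgroup.centralizer {g * g}

omit h in
theorem mem_E {x : G} : x ∈ E Q g ↔ x ∈ Q ∧ x * (g * g) = g * g * x :=
  Iff.and Iff.rfl Subgroup.mem_centralizer_singleton_iff

omit h in
theorem cj_E (Q : Subgroup G) (g : G) : cj g (E Q g) = E (cj g Q) g := by
  ext x
  rw [mem_cj, mem_E, mem_E, mem_cj]
  refine Iff.and Iff.rfl ?_
  constructor
  · intro h1
    have h2 : g * (g⁻¹ * x * g * (g * g)) * g⁻¹ = g * (g * g * (g⁻¹ * x * g)) * g⁻¹ := by rw [h1]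
    calc x * (g * g) = g * (g⁻¹ * x * g * (g * g)) * g⁻¹ := by group
      _ = _ := h2
      _ = g * g * x := by group
  · intro h1
    calc g⁻¹ * x * g * (g * g) = g⁻¹ * (x * (g * g)) * g := by group
      _ = g⁻¹ * (g * g * x) * g := by rw [h1]
      _ = g * g * (g⁻¹ * x * g) := by group

theorem exists_pair [Finite G] : ∃ e ∈ E Q g, ∃ e' ∈ E Q' g, e * e' ≠ e' * e := by
  obtain ⟨e, he, heQ⟩ : ∃ e ∈ E Q g, e ∉ Q' := by
    by_contra hcon
    push Not at hcon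
    have h1 : E Q g ≤ Q ⊓ Q' ⊓ Subgroup.centralizer {g * g} := fun x hx => ⟨⟨hx.1, hcon x hx⟩, hx.2⟩
    have h2 := Subgroup.card_le_of_le h1
    rw [h.cu, h.cz] at h2
    omega
  have he' : g * e * g⁻¹ ∈ E Q' g := by
    rw [← h.gQ, ← cj_E]
    exact conj_mem_cj.2 he
  refine ⟨e, he, _, he', fun hc => ?_⟩
  rcases h.ne e he.1 _ he'.1 hc with h1 | h1
  · exact heQ h1
  · apply heQ
    rw [← h.gQ', conj_mem_cj] at h1
    exact h1

/-- `u` is not conjugate into `R` by an element which carries `C_T(u)` into `T` -/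
theorem claim [Finite G] {c : G} (hr : c * (g * g) * c⁻¹ ∈ R)
    (hc : ∀ p ∈ S R g, p * (g * g) = g * g * p → c * p * c⁻¹ ∈ S R g) : False := by
  have hgS : g ∈ S R g := Subgroup.mem_sup_left (Subgroup.mem_zpowers _)
  set y := c * g * c⁻¹ with hy
  have hyS : y ∈ S R g := hc g hgS (by group)
  have hyT : y ∈ TT R g := h.mem_TT_of_sq hyS (by
    have : y * y = c * (g * g) * c⁻¹ := by rw [hy]; group
    rw [this]; exact hr)
  have hRS : R ≤ S R g := h.R_le_TT.trans h.TT_le_S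
  have hkE : ∀ {e}, e ∈ E Q g → c * e * c⁻¹ ∈ TT R g := by
    intro e he
    refine h.mem_TT_of_sq (hc e (hRS (h.le he.1)) (mem_E.1 he).2) ?_
    have : c * e * c⁻¹ * (c * e * c⁻¹) = c * (e * e) * c⁻¹ := by group
    rw [this, h.sq e he.1, mul_one, mul_inv_cancel]
    exact R.one_mem
  have hkE' : ∀ {e}, e ∈ E Q' g → c * e * c⁻¹ ∈ TT R g := by
    intro e he
    refine h.mem_TT_of_sq (hc e (hRS (h.le' he.1)) (mem_E.1 he).2) ?_
    have : c * e * c⁻¹ * (c * e * c⁻¹) = c * (e * e) * c⁻¹ := by group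
    rw [this, h.sq' e he.1, mul_one, mul_inv_cancel]
    exact R.one_mem
  -- conjugation by `g` and by `y`
  have hgE : ∀ {e}, e ∈ E Q g → g * e * g⁻¹ ∈ E Q' g := by
    intro e he
    rw [← h.gQ, ← cj_E]
    exact conj_mem_cj.2 he
  have hgE' : ∀ {e}, e ∈ E Q' g → g⁻¹ * e * g ∈ E Q g := by
    intro e he
    rw [← mem_cj, cj_E, h.gQ]
    exact he
  have hyR : ∀ {x}, y * x * y⁻¹ ∈ R ↔ x ∈ R := by
    intro x
    rw [← cj_of_mem_Nm (h.TT_le_NmR hyT), conj_mem_cj, cj_of_mem_Nm (h.TT_le_NmR hyT)]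
  have hyc : ∀ e, c * (g * e * g⁻¹) * c⁻¹ = y * (c * e * c⁻¹) * y⁻¹ := by
    intro e; rw [hy]; group
  -- the elements of `E` going into `R`
  set F : Subgroup G := E Q g ⊓ cj c⁻¹ R with hF
  set F' : Subgroup G := E Q' g ⊓ cj c⁻¹ R with hF'
  have mF : ∀ {x}, x ∈ F ↔ x ∈ E Q g ∧ c * x * c⁻¹ ∈ R := by
    intro x
    rw [hF, Subgroup.mem_inf, mem_cj, inv_inv]
  have mF' : ∀ {x}, x ∈ F' ↔ x ∈ E Q' g ∧ c * x * c⁻¹ ∈ R := by
    intro x
    rw [hF', Subgroup.mem_inf, mem_cj, inv_inv]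
  have hcF : cj g F = F' := by
    ext x
    rw [mem_cj, mF, mF']
    constructor
    · rintro ⟨h1, h2⟩
      have h3 := hgE h1
      have e1 : g * (g⁻¹ * x * g) * g⁻¹ = x := by group
      rw [e1] at h3
      refine ⟨h3, ?_⟩
      have h4 := hyR.2 h2
      rwa [← hyc, e1] at h4
    · rintro ⟨h1, h2⟩
      refine ⟨hgE' h1, ?_⟩
      have e1 : g * (g⁻¹ * x * g) * g⁻¹ = x := by group
      rw [← hyR, ← hyc, e1]
      exact h2
  -- `F` and `F'` commute
  have hFF : ∀ x ∈ F, ∀ x' ∈ F', x * x' = x' * x := by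
    have hsq : ∀ x ∈ cj c F, x * x = 1 := by
      intro x hx
      have h1 := h.sq _ (mF.1 (mem_cj.1 hx)).1.1
      have h2 : x * x = c * (c⁻¹ * x * c * (c⁻¹ * x * c)) * c⁻¹ := by group
      rw [h2, h1, mul_one, mul_inv_cancel]
    have hle : cj c F ≤ R := by
      intro x hx
      have h1 := (mF.1 (mem_cj.1 hx)).2
      have h2 : c * (c⁻¹ * x * c) * c⁻¹ = x := by group
      rwa [h2] at h1
    intro x hx x' hx'
    have h3 : c * x * c⁻¹ ∈ cj c F := conj_mem_cj.2 hx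
    have h4 : c * (g⁻¹ * x' * g) * c⁻¹ ∈ cj c F := by
      apply conj_mem_cj.2
      rw [← mem_cj, hcF]
      exact hx'
    have h5 : c * x' * c⁻¹ = y * (c * (g⁻¹ * x' * g) * c⁻¹) * y⁻¹ := by
      rw [hy]; group
    have h6 : c * x * c⁻¹ * (c * x' * c⁻¹) = c * x' * c⁻¹ * (c * x * c⁻¹) := by
      rcases h.elem hle hsq with h7 | h7
      · refine h.comm (h7 h3) ?_
        rw [h5]
        exact le_Nm_of h.TT_le_Nm hyT (h7 h4)
      · refine h.comm' (h7 h3) ?_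
        rw [h5]
        exact le_Nm_of h.TT_le_Nm' hyT (h7 h4)
    calc x * x' = c⁻¹ * (c * x * c⁻¹ * (c * x' * c⁻¹)) * c := by group
      _ = c⁻¹ * (c * x' * c⁻¹ * (c * x * c⁻¹)) * c := by rw [h6]
      _ = x' * x := by group
  -- hence `F ≤ Q'`
  have hFQ : F ≤ Q' := by
    intro x hx
    by_contra hxQ
    have hx' : g * x * g⁻¹ ∈ F' := by
      rw [← hcF]
      exact conj_mem_cj.2 hx
    rcases h.ne x (mF.1 hx).1.1 _ (mF'.1 hx').1.1 (hFF x hx _ hx') with h1 | h1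
    · exact hxQ h1
    · apply hxQ
      rw [← h.gQ', conj_mem_cj] at h1
      exact h1
  set Z : Subgroup G := Q ⊓ Q' ⊓ Subgroup.centralizer {g * g} with hZ
  have hFZ : F = Z := by
    have h1 : F ≤ Z := fun x hx => ⟨⟨(mF.1 hx).1.1, hFQ hx⟩, (mF.1 hx).1.2⟩
    apply Subgroup.eq_of_le_of_card_ge h1
    rw [hZ, h.cz]
    have h2 : Nat.card ↥(cj c (E Q g)) ≤ 2 * Nat.card ↥(R ⊓ cj c (E Q g)) := by
      apply card_le_two_mul h.rel_TT
      intro x hx
      have h3 := hkE (mem_cj.1 hx)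
      have h4 : c * (c⁻¹ * x * c) * c⁻¹ = x := by group
      rwa [h4] at h3
    have h3 : R ⊓ cj c (E Q g) = cj c F := by
      rw [hF, cj_inf c (E Q g) (cj c⁻¹ R), cj_cj_inv, inf_comm]
    rw [card_cj, h3, card_cj, E, h.cu] at h2
    omega
  have hFZ' : F' = Z := by
    have h1 : Z ≤ F' := by
      intro x hx
      have h2 : x ∈ F := by rw [hFZ]; exact hx
      exact mF'.2 ⟨⟨hx.1.2, hx.2⟩, (mF.1 h2).2⟩
    symm
    apply Subgroup.eq_of_le_of_card_ge h1
    rw [← hcF, card_cj, hFZ]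
  obtain ⟨e, he, e', he', hee⟩ := h.exists_pair
  have heR : c * e * c⁻¹ ∉ R := by
    intro h1
    have h2 : e ∈ Z := by
      rw [← hFZ]
      exact mF.2 ⟨he, h1⟩
    exact hee (h.central h2.1.1 h2.1.2 (h.le' he'.1))
  have heR' : c * e' * c⁻¹ ∉ R := by
    intro h1
    have h2 : e' ∈ Z := by
      rw [← hFZ']
      exact mF'.2 ⟨he', h1⟩
    exact hee (h.central h2.1.1 h2.1.2 (h.le he.1)).symm
  -- the subgroup `⟨u⟩ Z`
  have hgZ : ∀ z ∈ Z, z * (g * g) = g * g * z := fun z hz => Subgroup.mem_centralizer_singleton_iff.1 hz.2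
  have huZ : g * g ∈ Nm Z := by
    rw [Nm, Subgroup.mem_normalizer_iff]
    have key : ∀ x, x ∈ Z → g * g * x * (g * g)⁻¹ ∈ Z := by
      intro x hx
      rw [← hgZ x hx, mul_inv_cancel_right]
      exact hx
    intro x
    refine ⟨key x, fun hx => ?_⟩
    have h1 := hgZ _ hx
    have h2 : x = g * g * x * (g * g)⁻¹ := by
      calc x = (g * g)⁻¹ * (g * g * x * (g * g)⁻¹ * (g * g)) := by group
        _ = (g * g)⁻¹ * (g * g * (g * g * x * (g * g)⁻¹)) := by rw [h1]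
        _ = g * g * x * (g * g)⁻¹ := by rw [inv_mul_cancel_left]
    rw [h2]
    exact hx
  have huu : g * g * (g * g) ∈ Z := by rw [h.gg]; exact Z.one_mem
  have huZ' : g * g ∉ Z := fun h1 => h.ggR (h.le h1.1.1)
  set M : Subgroup G := Subgroup.zpowers (g * g) ⊔ Z with hM
  have mM : ∀ {x}, x ∈ M ↔ x ∈ Z ∨ x * (g * g) ∈ Z := mem_ext huZ huu
  have hcM : Nat.card M = 8 := by rw [hM, card_ext huZ huu huZ', hZ, h.cz]
  have hMe : ∀ x ∈ M, ∃ z ∈ Z, x = z ∨ x = z * (g * g) := by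
    intro x hx
    rcases mM.1 hx with h1 | h1
    · exact ⟨x, h1, Or.inl rfl⟩
    · refine ⟨_, h1, Or.inr ?_⟩
      rw [mul_assoc, h.gg, mul_one]
  have hkM : cj c M ≤ R := by
    intro x hx
    obtain ⟨z, hz, h1⟩ := hMe _ (mem_cj.1 hx)
    have hz' : c * z * c⁻¹ ∈ R := by
      have : z ∈ F := by rw [hFZ]; exact hz
      exact (mF.1 this).2
    rcases h1 with h1 | h1
    · have h2 : x = c * z * c⁻¹ := by rw [← h1]; group
      rw [h2]; exact hz'
    · have h2 : x = c * z * c⁻¹ * (c * (g * g) * c⁻¹) := by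
        have : c * (c⁻¹ * x * c) * c⁻¹ = c * (z * (g * g)) * c⁻¹ := by rw [h1]
        calc x = c * (c⁻¹ * x * c) * c⁻¹ := by group
          _ = _ := this
          _ = _ := by group
      rw [h2]; exact R.mul_mem hz' hr
  have hMsq : ∀ x ∈ M, x * x = 1 := by
    intro x hx
    obtain ⟨z, hz, rfl | rfl⟩ := hMe x hx
    · exact h.sq _ hz.1.1
    · calc z * (g * g) * (z * (g * g)) = z * (g * g * z) * (g * g) := by group
        _ = z * (z * (g * g)) * (g * g) := by rw [hgZ z hz]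
        _ = z * z * (g * g * (g * g)) := by group
        _ = 1 := by rw [h.sq _ hz.1.1, h.gg, one_mul]
  have hkMsq : ∀ x ∈ cj c M, x * x = 1 := by
    intro x hx
    have h1 := hMsq _ (mem_cj.1 hx)
    have h2 : x * x = c * (c⁻¹ * x * c * (c⁻¹ * x * c)) * c⁻¹ := by group
    rw [h2, h1, mul_one, mul_inv_cancel]
  have hMc : ∀ x ∈ M, ∀ f, (f ∈ R) → f * (g * g) = g * g * f → x * f = f * x := by
    intro x hx f hf hfu
    obtain ⟨z, hz, rfl | rfl⟩ := hMe x hx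
    · exact h.central hz.1.1 hz.1.2 hf
    · rw [mul_assoc, ← hfu, ← mul_assoc, h.central hz.1.1 hz.1.2 hf, mul_assoc]
  have hkMc : ∀ x ∈ cj c M, ∀ f, (f ∈ R) → f * (g * g) = g * g * f →
      x * (c * f * c⁻¹) = c * f * c⁻¹ * x := by
    intro x hx f hf hfu
    have h1 := hMc _ (mem_cj.1 hx) f hf hfu
    calc x * (c * f * c⁻¹) = c * (c⁻¹ * x * c * f) * c⁻¹ := by group
      _ = c * (f * (c⁻¹ * x * c)) * c⁻¹ := by rw [h1]
      _ = c * f * c⁻¹ * x := by group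
  obtain ⟨w, hw, hwU⟩ : ∃ w ∈ cj c M, w ∉ Q ⊓ Q' := by
    by_contra hcon
    push Not at hcon
    have h1 : cj c M ≤ Z := by
      intro x hx
      have h2 := hcon x hx
      exact ⟨h2, Subgroup.mem_centralizer_singleton_iff.2
        (h.comm_u h2.1 h2.2 (hkE he) heR (hkMc x hx e (h.le he.1) (mem_E.1 he).2))⟩
    have h2 := Subgroup.card_le_of_le h1
    rw [card_cj, hcM, hZ, h.cz] at h2
    omega
  have hpR : c * e * c⁻¹ * (c * e' * c⁻¹) ∈ R := mul_mem_of_two h.rel_TT (hkE he) (hkE' he') heR heR'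
  have hpw : c * e * c⁻¹ * (c * e' * c⁻¹) * w = w * (c * e * c⁻¹ * (c * e' * c⁻¹)) := by
    have h1 := hkMc w hw e (h.le he.1) (mem_E.1 he).2
    have h2 := hkMc w hw e' (h.le' he'.1) (mem_E.1 he').2
    rw [mul_assoc, ← h2, ← mul_assoc, ← h1, mul_assoc]
  have hpp : c * e * c⁻¹ * (c * e' * c⁻¹) * (c * e * c⁻¹ * (c * e' * c⁻¹)) = 1 := by
    rcases h.elem hkM hkMsq with h1 | h1
    · exact h.sq _ (h.cent (h1 hw) (fun h2 => hwU ⟨h1 hw, h2⟩) hpR hpw)
    · exact h.sq' _ (h.toEE.symm.cent (h1 hw) (fun h2 => hwU ⟨h2, h1 hw⟩) hpR hpw)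
  apply hee
  have h1 : e * e' * (e * e') = 1 := by
    calc e * e' * (e * e') = c⁻¹ * (c * e * c⁻¹ * (c * e' * c⁻¹) * (c * e * c⁻¹ * (c * e' * c⁻¹))) * c := by group
      _ = 1 := by rw [hpp]; group
  have h2 : e * e' = (e * e')⁻¹ := (inv_eq_of_mul_eq_one_left h1).symm
  rwa [mul_inv_rev, inv_eq_of_mul_eq_one_left (h.sq e he.1), inv_eq_of_mul_eq_one_left (h.sq' e' he'.1)] at h2

theorem isPGroup_S [Finite G] : IsPGroup 2 (S R g) := IsPGroup.of_card (n := 10) (by rw [h.card_S]; norm_num)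

/-- `u` is not conjugate into `R` -/
theorem not_conj [Finite G] (P : Sylow 2 G) (hP : (P : Subgroup G) = S R g) (c : G) : c * (g * g) * c⁻¹ ∉ R := by
  intro hr
  have : Fact (Nat.Prime 2) := ⟨Nat.prime_two⟩
  set r := c * (g * g) * c⁻¹ with hrdef
  have hrr : r * r = 1 := by
    have : r * r = c * (g * g * (g * g)) * c⁻¹ := by rw [hrdef]; group
    rw [this, h.gg, mul_one, mul_inv_cancel]
  obtain ⟨X, hX, hXsq, hXc, hXR⟩ : ∃ X : Subgroup G, r ∈ X ∧ (∀ x ∈ X, x * x = 1) ∧ Nat.card X = 64 ∧ X ≤ R := by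
    rcases h.invol hr hrr with h1 | h1
    · exact ⟨Q, h1, h.sq, h.cQ, h.le⟩
    · exact ⟨Q', h1, h.sq', h.cQ', h.le'⟩
  have hX2 : IsPGroup 2 X := IsPGroup.of_card (n := 6) (by rw [hXc]; norm_num)
  have hXC : X ≤ Subgroup.centralizer {r} := fun x hx =>
    Subgroup.mem_centralizer_singleton_iff.2 (comm_of_sq hXsq hx hX)
  -- a Sylow 2-subgroup of the centraliser of `r`
  obtain ⟨P₀, hP₀, hXP, hPC, hmax⟩ : ∃ P₀ : Subgroup G, IsPGroup 2 P₀ ∧ X ≤ P₀ ∧ P₀ ≤ Subgroup.centralizer {r} ∧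
      ∀ Y : Subgroup G, IsPGroup 2 Y → P₀ ≤ Y → Y ≤ Subgroup.centralizer {r} → Y ≤ P₀ := by
    have h2 : IsPGroup 2 (X.subgroupOf (Subgroup.centralizer {r})) := hX2.comap_subtype
    obtain ⟨P₁, hP₁⟩ := h2.exists_le_sylow
    refine ⟨(P₁ : Subgroup _).map (Subgroup.subtype _), P₁.isPGroup'.map _, ?_, Subgroup.map_subtype_le _, ?_⟩
    · intro x hx
      exact ⟨⟨x, hXC hx⟩, hP₁ (Subgroup.mem_subgroupOf.2 hx), rfl⟩
    · intro Y hY hPY hYC y hy
      have h3 : IsPGroup 2 (Y.subgroupOf (Subgroup.centralizer {r})) := hY.comap_subtype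
      have h4 : (P₁ : Subgroup _) ≤ Y.subgroupOf (Subgroup.centralizer {r}) := by
        intro x hx
        exact Subgroup.mem_subgroupOf.2 (hPY ⟨x, hx, rfl⟩)
      have h5 := P₁.is_maximal' h3 h4
      have h6 : (⟨y, hYC hy⟩ : Subgroup.centralizer {r}) ∈ (P₁ : Subgroup (Subgroup.centralizer {r})) := by
        rw [← h5]
        exact Subgroup.mem_subgroupOf.2 hy
      exact ⟨⟨y, hYC hy⟩, h6, rfl⟩
  -- the 2-group `C_T(u)` conjugated by `c`
  set W : Subgroup G := S R g ⊓ Subgroup.centralizer {g * g} with hW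
  have hW2 : IsPGroup 2 W := h.isPGroup_S.to_le inf_le_left
  have hWc : cj c W ≤ Subgroup.centralizer {r} := by
    intro x hx
    have h2 := Subgroup.mem_centralizer_singleton_iff.1 (mem_cj.1 hx).2
    rw [Subgroup.mem_centralizer_singleton_iff]
    calc x * r = c * (c⁻¹ * x * c * (g * g)) * c⁻¹ := by rw [hrdef]; group
      _ = c * (g * g * (c⁻¹ * x * c)) * c⁻¹ := by rw [h2]
      _ = r * x := by rw [hrdef]; group
  obtain ⟨d, hd, hdW⟩ := GH.C2GrowJ2.exists_conj_le _ P₀ (cj c W) hP₀ hPC hmax (isPGroup_cj c hW2) hWc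
  obtain ⟨m, -, hm⟩ := GH.C2GrowJ2.exists_conj_le_sylow P ⊤ P₀ le_top hP₀ le_top
  rw [hP] at hm
  have hdr : d * r * d⁻¹ = r := by
    rw [Subgroup.mem_centralizer_singleton_iff.1 hd, mul_inv_cancel_right]
  have hmr : m * r * m⁻¹ ∈ R := by
    have h2 : cj m X ≤ R := by
      apply h.le_R_of_card
      · intro x hx
        have h3 := hm _ (hXP (mem_cj.1 hx))
        have h4 : m * (m⁻¹ * x * m) * m⁻¹ = x := by group
        rwa [h4] at h3
      · intro x hx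
        have h3 := hXsq _ (mem_cj.1 hx)
        have h4 : x * x = m * (m⁻¹ * x * m * (m⁻¹ * x * m)) * m⁻¹ := by group
        rw [h4, h3, mul_one, mul_inv_cancel]
      · rw [card_cj, hXc]
    exact h2 (conj_mem_cj.2 hX)
  refine h.claim (c := m * d * c) ?_ ?_
  · have h2 : m * d * c * (g * g) * (m * d * c)⁻¹ = m * (d * r * d⁻¹) * m⁻¹ := by rw [hrdef]; group
    rw [h2, hdr]
    exact hmr
  · intro p hp hpu
    have h2 : p ∈ W := ⟨hp, Subgroup.mem_centralizer_singleton_iff.2 hpu⟩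
    have h3 := hm _ (hdW _ (conj_mem_cj.2 h2 : c * p * c⁻¹ ∈ cj c W))
    have h4 : m * d * c * p * (m * d * c)⁻¹ = m * (d * (c * p * c⁻¹) * d⁻¹) * m⁻¹ := by group
    rw [h4]
    exact h3

/-- **The contradiction.** -/
theorem false_of [Finite G] (hG : ∀ M : Subgroup G, M.Normal → M.index ≠ 2) (hsyl : ¬ 2048 ∣ Nat.card G) : False := by
  have : Fact (Nat.Prime 2) := ⟨Nat.prime_two⟩
  have hidx : ¬ 2 ∣ (S R g).index := by
    intro h0
    apply hsyl
    obtain ⟨k, hk⟩ := h0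
    rw [← (S R g).card_mul_index, h.card_S, hk]
    exact ⟨k, by ring⟩
  set P : Sylow 2 G := h.isPGroup_S.toSylow hidx with hPdef
  have hP : (P : Subgroup G) = S R g := rfl
  have hG' : ∀ H : Subgroup G, H.index ≠ 2 := fun H hH => hG H (Subgroup.normal_of_index_eq_two hH) hH
  have hpow : g ^ (2 ^ 2) = 1 := by
    have : g ^ (2 ^ 2) = g * g * (g * g) := by
      rw [show (2 ^ 2 : ℕ) = 2 + 2 from rfl, pow_add, pow_two]
    rw [this, h.gg]
  have hg2 : IsPGroup 2 (Subgroup.zpowers g) := by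
    rintro ⟨x, j, rfl⟩
    refine ⟨2, Subtype.ext ?_⟩
    show (g ^ j) ^ 2 ^ 2 = 1
    rw [← zpow_natCast, zpow_comm, zpow_natCast, hpow, one_zpow]
  -- the number of fixed cosets is even
  have hev := LargeExtra.TransferPow.even_card_fixed hG' h.TT_le_S h.rel_S g hpow (fun m c hm hc => ?_)
    (Subgroup.zpowers g) hg2 (fun p hp => by
      obtain ⟨j, rfl⟩ := hp
      exact (Commute.zpow_self g j).eq)
  swap
  · -- even powers
    obtain ⟨j, rfl⟩ := hm
    apply h.mem_TT_of_sq hc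
    have h1 : (c⁻¹ * g ^ (2 * j) * c) * (c⁻¹ * g ^ (2 * j) * c) = c⁻¹ * (g ^ (2 ^ 2)) ^ j * c := by
      have e1 : g ^ (2 * j) * g ^ (2 * j) = (g ^ (2 ^ 2)) ^ j := by
        rw [← pow_add, ← pow_mul]
        congr 1
        omega
      rw [← e1]
      group
    rw [h1, hpow, one_pow, mul_one, inv_mul_cancel]
    exact R.one_mem
  -- and odd
  have hodd : Odd (Nat.card {x : G ⧸ S R g // ∀ p ∈ Subgroup.zpowers g, p • x = x}) := by
    have h1 := hg2.card_modEq_card_fixedPoints (G ⧸ S R g)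
    have h2 : Nat.card (MulAction.fixedPoints (Subgroup.zpowers g) (G ⧸ S R g)) =
        Nat.card {x : G ⧸ S R g // ∀ p ∈ Subgroup.zpowers g, p • x = x} := by
      apply Nat.card_congr
      exact
        { toFun := fun x => ⟨x.1, fun p hp => x.2 ⟨p, hp⟩⟩
          invFun := fun x => ⟨x.1, fun p => x.2 p p.2⟩
          left_inv := fun _ => rfl
          right_inv := fun _ => rfl }
    rw [h2] at h1
    have h3 : Nat.card (G ⧸ S R g) % 2 = 1 := by
      have : Nat.card (G ⧸ S R g) = (S R g).index := rfl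
      rw [this]
      omega
    rw [Nat.odd_iff, ← h1]
    exact h3
  have hall : ∀ x : G ⧸ S R g, (∀ p ∈ Subgroup.zpowers g, p • x = x) →
      LargeExtra.Transfer.Odd1 (S R g) (TT R g) g x := by
    intro x hx
    obtain ⟨c, rfl⟩ := QuotientGroup.mk_surjective x
    have h1 := hx g (Subgroup.mem_zpowers g)
    rw [LargeExtra.Transfer.smul_eq_iff] at h1
    rw [LargeExtra.Transfer.odd1_iff h.TT_le_S h.rel_S]
    refine ⟨h1, fun h2 => ?_⟩
    apply h.not_conj P hP c⁻¹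
    have h3 : c⁻¹ * (g * g) * c⁻¹⁻¹ = (c⁻¹ * g * c) * (c⁻¹ * g * c) := by group
    rw [h3]
    by_cases h4 : c⁻¹ * g * c ∈ R
    · exact R.mul_mem h4 h4
    · exact mul_mem_of_two h.rel_TT h2 h2 h4 h4
  have heq : Nat.card {x : G ⧸ S R g // LargeExtra.Transfer.Odd1 (S R g) (TT R g) g x ∧
      ∀ p ∈ Subgroup.zpowers g, p • x = x} = Nat.card {x : G ⧸ S R g // ∀ p ∈ Subgroup.zpowers g, p • x = x} := by
    apply Nat.card_congr
    exact
      { toFun := fun x => ⟨x.1, x.2.2⟩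
        invFun := fun x => ⟨x.1, hall x.1 x.2, x.2⟩
        left_inv := fun _ => rfl
        right_inv := fun _ => rfl }
  rw [heq] at hev
  exact (Nat.not_even_iff_odd.2 hodd) hev

end Four

end Cfsg.Agent.H391.Five
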