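import Cfsg.Agent.H391.Five.Four
import Cfsg.Agent.Transfer.AlperinFusion

/-!
# The configuration of order 23040 does not occur
-/

set_option autoImplicit false
set_option linter.unusedSectionVars false

open Pointwise

namespace Cfsg.Agent.H391.Five

open Cfsg.Agent.H399

variable {G : Type*} [Group G]

/-! ### an involution inverting a fixed point free element of order 3 -/

/-- `|V| ≤ |C_V(u)|²` -/
theorem card_le_sq [Finite G] {V : Subgroup G} (hV : ∀ x ∈ V, x * x = 1) {u : G} (huu : u * u = 1) (hu : u ∈ Nm V) :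
    Nat.card V ≤ Nat.card ↥(V ⊓ Subgroup.centralizer {u}) ^ 2 := by
  have hui : u⁻¹ = u := inv_eq_of_mul_eq_one_left huu
  have hcm : ∀ {x y : G}, x ∈ V → y ∈ V → x * y = y * x := fun hx hy => comm_of_sq hV hx hy
  have hcj : ∀ x : V, u * (x : G) * u⁻¹ * (x : G)⁻¹ ∈ V := fun x =>
    V.mul_mem (conj_mem_of_Nm hu x.2) (V.inv_mem x.2)
  let f : V →* V :=
    { toFun := fun x => ⟨u * (x : G) * u⁻¹ * (x : G)⁻¹, hcj x⟩
      map_one' := by
        apply Subtype.ext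
        show u * (1 : G) * u⁻¹ * (1 : G)⁻¹ = 1
        group
      map_mul' := by
        intro x y
        apply Subtype.ext
        show u * ((x : G) * y) * u⁻¹ * ((x : G) * y)⁻¹ = u * (x : G) * u⁻¹ * (x : G)⁻¹ * (u * (y : G) * u⁻¹ * (y : G)⁻¹)
        have h1 := hcm (V.inv_mem x.2) (hcj y)
        calc u * ((x : G) * y) * u⁻¹ * ((x : G) * y)⁻¹ =
            u * (x : G) * u⁻¹ * ((u * (y : G) * u⁻¹ * (y : G)⁻¹) * (x : G)⁻¹) := by group
          _ = u * (x : G) * u⁻¹ * ((x : G)⁻¹ * (u * (y : G) * u⁻¹ * (y : G)⁻¹)) := by rw [h1]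
          _ = _ := by group }
  have hf : ∀ x : V, ((f x : V) : G) = u * (x : G) * u⁻¹ * (x : G)⁻¹ := fun _ => rfl
  have h1 : Nat.card V = Nat.card f.ker * Nat.card f.range := by
    rw [← Subgroup.index_ker, Subgroup.card_mul_index]
  have h2 : Nat.card f.ker ≤ Nat.card ↥(V ⊓ Subgroup.centralizer {u}) := by
    apply Nat.card_le_card_of_injective (fun x : f.ker => (⟨((x : V) : G), (x : V).2, ?_⟩ :
      ↥(V ⊓ Subgroup.centralizer {u})))
    · intro x y hxy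
      exact Subtype.ext (Subtype.ext (congrArg (fun z : ↥(V ⊓ Subgroup.centralizer {u}) => (z : G)) hxy))
    · have h3 : ((f x : V) : G) = 1 := by
        have := x.2
        rw [MonoidHom.mem_ker] at this
        rw [this]; rfl
      rw [hf, mul_inv_eq_one, mul_inv_eq_iff_eq_mul] at h3
      exact Subgroup.mem_centralizer_singleton_iff.2 h3.symm
  have h3 : Nat.card f.range ≤ Nat.card ↥(V ⊓ Subgroup.centralizer {u}) := by
    apply Nat.card_le_card_of_injective (fun x : f.range => (⟨((x : V) : G), (x : V).2, ?_⟩ :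
      ↥(V ⊓ Subgroup.centralizer {u})))
    · intro x y hxy
      exact Subtype.ext (Subtype.ext (congrArg (fun z : ↥(V ⊓ Subgroup.centralizer {u}) => (z : G)) hxy))
    · obtain ⟨x, y, rfl⟩ := x
      refine Subgroup.mem_centralizer_singleton_iff.2 ?_
      show (f y : G) * u = u * (f y : G)
      rw [hf]
      have h4 : u * (y : G) * u⁻¹ * (y : G)⁻¹ = (y : G)⁻¹ * (u * (y : G) * u⁻¹) :=
        hcm (conj_mem_of_Nm hu y.2) (V.inv_mem y.2)
      have hyi : (y : G)⁻¹ = y := inv_eq_of_mul_eq_one_left (hV y y.2)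
      have h5 : u * (y : G) * u⁻¹ * (y : G)⁻¹ = y * (u * y * u) := by rw [h4, hyi, hui]
      have h6 : u * (y : G) * u⁻¹ * (y : G)⁻¹ = u * y * u * y := by rw [hyi, hui]
      calc u * (y : G) * u⁻¹ * (y : G)⁻¹ * u = y * (u * y * u) * u := by rw [h5]
        _ = y * (u * y) * (u * u) := by group
        _ = (u * u) * (y * (u * y)) := by rw [huu, mul_one, one_mul]
        _ = u * (u * y * u * y) := by group
        _ = u * (u * (y : G) * u⁻¹ * (y : G)⁻¹) := by rw [h6]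
  rw [h1, pow_two]
  exact Nat.mul_le_mul h2 h3

/-- `|C_V(u)|² = |V|` if `u` inverts a fixed point free element of order 3 on `V` -/
theorem card_sq [Finite G] {V : Subgroup G} (hV : ∀ x ∈ V, x * x = 1) {u ρ : G} (huu : u * u = 1) (hu : u ∈ Nm V)
    (hρ : ρ ∈ Nm V) (hinv : u * ρ * u⁻¹ = ρ⁻¹) (h3 : ρ * ρ * ρ = 1) (hfpf : ∀ x ∈ V, x * ρ = ρ * x → x = 1) :
    Nat.card ↥(V ⊓ Subgroup.centralizer {u}) ^ 2 = Nat.card V := by
  refine le_antisymm ?_ (card_le_sq hV huu hu)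
  set C := V ⊓ Subgroup.centralizer {u} with hC
  have h1 : C ⊓ cj ρ C = ⊥ := by
    rw [eq_bot_iff]
    rintro x ⟨⟨hxV, hxu⟩, hx'⟩
    have hxu' := Subgroup.mem_centralizer_singleton_iff.1 hxu
    have h4 := Subgroup.mem_centralizer_singleton_iff.1 (mem_cj.1 hx').2
    rw [Subgroup.mem_bot]
    apply hfpf x hxV
    -- `x` commutes with `ρ u ρ⁻¹`
    have h5 : x * (ρ * u * ρ⁻¹) = ρ * u * ρ⁻¹ * x := by
      calc x * (ρ * u * ρ⁻¹) = ρ * (ρ⁻¹ * x * ρ * u) * ρ⁻¹ := by group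
        _ = ρ * (u * (ρ⁻¹ * x * ρ)) * ρ⁻¹ := by rw [h4]
        _ = ρ * u * ρ⁻¹ * x := by group
    have h6 : ρ = u * (ρ * u * ρ⁻¹) := by
      have hui : u⁻¹ = u := inv_eq_of_mul_eq_one_left huu
      have h7 : u * ρ * u = ρ⁻¹ := by rw [← hinv, hui]
      calc ρ = ρ⁻¹ * ρ⁻¹ * (ρ * ρ * ρ) := by group
        _ = ρ⁻¹ * ρ⁻¹ := by rw [h3, mul_one]
        _ = u * ρ * u * ρ⁻¹ := by rw [h7]
        _ = _ := by group
    rw [h6, ← mul_assoc, hxu', mul_assoc, h5, ← mul_assoc]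
  have hCV : C ≤ V := inf_le_left
  have hCV' : cj ρ C ≤ V := by
    rw [← cj_of_mem_Nm hρ, cj_le_cj]
    exact hCV
  have h2 : C ≤ Nm (cj ρ C) := by
    rw [le_Nm]
    intro x hx y hy
    rw [comm_of_sq hV (hCV hx) (hCV' hy), mul_inv_cancel_right]
    exact hy
  have h4 := card_sup h2
  rw [h1, Subgroup.card_bot, mul_one, card_cj] at h4
  rw [pow_two, ← h4]
  exact Subgroup.card_le_of_le (sup_le hCV hCV')

/-! ### the configuration -/

/-- The configuration of order 23040. -/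
structure K23040 (A Q : Subgroup G) (g ρ : G) : Prop where
  max : IsCoatom A
  core : A.normalCore = ⊥
  cardA : Nat.card A = 23040
  norm : Nm Q = A
  sq : ∀ x ∈ Q, x * x = 1
  cQ : Nat.card Q = 64
  cU : Nat.card ↥(Q ⊓ cj g Q) = 16
  leA : cj g Q ≤ A
  ne : ∀ a ∈ Q, ∀ b ∈ cj g Q, a * b = b * a → a ∈ cj g Q ∨ b ∈ Q
  ggA : g * g ∈ A
  gg : g * g * (g * g) = 1
  ρA : ρ ∈ A
  ρA' : ρ ∈ cj g A
  ρ1 : ρ ≠ 1
  ρ3 : ρ * ρ * ρ = 1
  inv : g * g * ρ * (g * g)⁻¹ = ρ⁻¹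
  fpf : ∀ x ∈ Q, x * ρ = ρ * x → x = 1

namespace K23040

variable {A Q : Subgroup G} {g ρ : G} (h : K23040 A Q g ρ)

include h

theorem gQ' : cj g (cj g Q) = Q := by
  rw [← cj_mul]
  apply cj_of_mem_Nm
  rw [h.norm]
  exact h.ggA

theorem leA' : A ≤ Nm Q := by rw [h.norm]

theorem Q_le_Nm' : Q ≤ Nm (cj g Q) := by
  have h1 : cj g (cj g Q) ≤ cj g (Nm Q) := cj_le_cj.2 (h.leA.trans h.leA')
  rwa [cj_Nm, h.gQ'] at h1

theorem QA : Q ≤ A := by
  rw [← h.norm]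
  exact self_le_Nm Q

theorem sq' : ∀ x ∈ cj g Q, x * x = 1 := by
  intro x hx
  have h1 := h.sq _ (mem_cj.1 hx)
  have h2 : x * x = g * (g⁻¹ * x * g * (g⁻¹ * x * g)) * g⁻¹ := by group
  rw [h2, h1, mul_one, mul_inv_cancel]

theorem cR [Finite G] : Nat.card ↥(Q ⊔ cj g Q) = 256 := by
  have h1 := card_sup h.Q_le_Nm'
  rw [h.cU, h.cQ, card_cj, h.cQ] at h1
  omega

theorem ee : EE Q (cj g Q) (Q ⊔ cj g Q) where
  sq := h.sq
  sq' := h.sq'
  le := le_sup_left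
  le' := le_sup_right
  ex x hx := by
    obtain ⟨a, ha, b, hb, hab⟩ := (mul_mem_sup_iff h.Q_le_Nm').1 hx
    exact ⟨a, ha, b, hb, hab.symm⟩
  ne := h.ne

theorem gR : g ∈ Nm (Q ⊔ cj g Q) := by
  rw [mem_Nm, cj_sup, h.gQ', sup_comm]

theorem ρQ : ρ ∈ Nm Q := h.leA' h.ρA

theorem ρQ' : ρ ∈ Nm (cj g Q) := by
  rw [← cj_Nm, h.norm]
  exact h.ρA'

theorem ggR [Finite G] : g * g ∉ Q ⊔ cj g Q := by
  intro h1
  have hρR : ρ ∈ Nm (Q ⊔ cj g Q) := by
    rw [mem_Nm, cj_sup, cj_of_mem_Nm h.ρQ, cj_of_mem_Nm h.ρQ']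
  have h2 : g * g * (ρ * (g * g)⁻¹ * ρ⁻¹) ∈ Q ⊔ cj g Q :=
    Subgroup.mul_mem _ h1 (conj_mem_of_Nm hρR (Subgroup.inv_mem _ h1))
  have h3 : g * g * (ρ * (g * g)⁻¹ * ρ⁻¹) = ρ := by
    calc g * g * (ρ * (g * g)⁻¹ * ρ⁻¹) = g * g * ρ * (g * g)⁻¹ * ρ⁻¹ := by group
      _ = ρ⁻¹ * ρ⁻¹ := by rw [h.inv]
      _ = ρ⁻¹ * ρ⁻¹ * (ρ * ρ * ρ) := by rw [h.ρ3, mul_one]
      _ = ρ := by group
  rw [h3] at h2
  have h4 : orderOf ρ = 3 := by
    have : Fact (Nat.Prime 3) := ⟨Nat.prime_three⟩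
    apply orderOf_eq_prime _ h.ρ1
    rw [← h.ρ3]
    rw [pow_succ, pow_two]
  have h5 : orderOf ρ ∣ 256 := by
    rw [← h.cR]
    exact Subgroup.orderOf_dvd_natCard _ h2
  rw [h4] at h5
  norm_num at h5

theorem four [Finite G] : Four Q (cj g Q) (Q ⊔ cj g Q) g where
  toEE := h.ee
  cQ := h.cQ
  cQ' := by rw [card_cj, h.cQ]
  cU := h.cU
  cR := h.cR
  gQ := rfl
  gQ' := h.gQ'
  gg := h.gg
  gR := h.gR
  ggR := h.ggR
  cu := by
    have h1 := card_sq h.sq h.gg (h.leA' h.ggA) h.ρQ h.inv h.ρ3 h.fpf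
    rw [h.cQ] at h1
    nlinarith
  cz := by
    have hu' : g * g ∈ Nm (cj g Q) := by
      rw [mem_Nm, cj_mul, h.gQ']
    have h1 := card_sq (V := Q ⊓ cj g Q) (fun x hx => h.sq x hx.1) h.gg
      (by rw [mem_Nm, cj_inf, cj_of_mem_Nm (h.leA' h.ggA), cj_of_mem_Nm hu'])
      (by rw [mem_Nm, cj_inf, cj_of_mem_Nm h.ρQ, cj_of_mem_Nm h.ρQ']) h.inv h.ρ3 (fun x hx => h.fpf x hx.1)
    rw [h.cU] at h1
    nlinarith
  nQ := sup_le (self_le_Nm Q) (h.leA.trans h.leA')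
  nQ' := sup_le h.Q_le_Nm' (self_le_Nm _)

theorem RA : Q ⊔ cj g Q ≤ A := sup_le h.QA h.leA

theorem TTA [Finite G] : Four.TT (Q ⊔ cj g Q) g ≤ A := by
  apply sup_le _ h.RA
  rw [Subgroup.zpowers_le]
  exact h.ggA

theorem cTT [Finite G] : Nat.card (Four.TT (Q ⊔ cj g Q) g) = 512 := by
  have h1 := h.four.card_S
  rw [Four.S, card_ext h.four.g_TT h.four.gg_TT h.four.g_not_TT] at h1
  omega

theorem card_le_of_two [Finite G] {X : Subgroup G} (hX : IsPGroup 2 X) (hXA : X ≤ A) : Nat.card X ≤ 512 := by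
  have : Fact (Nat.Prime 2) := ⟨Nat.prime_two⟩
  obtain ⟨n, hn⟩ := IsPGroup.iff_card.1 hX
  have h1 : Nat.card X ∣ 23040 := by
    rw [← h.cardA]
    exact Subgroup.card_dvd_of_le hXA
  rw [hn] at h1 ⊢
  by_contra hcon
  have h2 : 9 < n := by
    by_contra h3
    apply hcon
    calc 2 ^ n ≤ 2 ^ 9 := Nat.pow_le_pow_right (by norm_num) (by omega)
      _ = 512 := by norm_num
  have h3 : 2 ^ 10 ∣ 2 ^ n := Nat.pow_dvd_pow 2 h2
  have h4 := h3.trans h1
  norm_num at h4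

/-- `g` moves `Q` -/
theorem elem_eq [Finite G] {X : Subgroup G} (hX : X ≤ Q ⊔ cj g Q) (hsq : ∀ x ∈ X, x * x = 1) (hc : Nat.card X = 64) :
    X = Q ∨ X = cj g Q := by
  rcases h.ee.elem hX hsq with h1 | h1
  · left
    exact Subgroup.eq_of_le_of_card_ge h1 (by rw [hc, h.cQ])
  · right
    exact Subgroup.eq_of_le_of_card_ge h1 (by rw [hc, card_cj, h.cQ])

theorem syl [Finite G] : ¬ 2048 ∣ Nat.card G := by
  intro h0
  have : Fact (Nat.Prime 2) := ⟨Nat.prime_two⟩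
  have hF := h.four
  obtain ⟨P, hP⟩ := hF.isPGroup_S.exists_le_sylow
  have hne : ¬ (P : Subgroup G) ≤ Four.S (Q ⊔ cj g Q) g := by
    intro h1
    have h2 : (P : Subgroup G) = Four.S (Q ⊔ cj g Q) g := le_antisymm h1 hP
    have h3 := P.card_eq_multiplicity
    rw [h2, hF.card_S] at h3
    have h4 : 2 ^ 11 ∣ 2 ^ (Nat.card G).factorization 2 := by
      apply Nat.pow_dvd_pow
      exact (Nat.prime_two.pow_dvd_iff_le_factorization Nat.card_pos.ne').1 (by norm_num; exact h0)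
    rw [← h3] at h4
    norm_num at h4
  obtain ⟨x, hxP, hxN, hxS⟩ := Transfer.AlperinFusion.exists_mem_normalizer_notMem P _ hP hne
  -- `x` normalises `R`
  have hsqx : ∀ {X : Subgroup G}, (∀ y ∈ X, y * y = 1) → ∀ y ∈ cj x X, y * y = 1 := by
    intro X hX y hy
    have h1 := hX _ (mem_cj.1 hy)
    have h2 : y * y = x * (x⁻¹ * y * x * (x⁻¹ * y * x)) * x⁻¹ := by group
    rw [h2, h1, mul_one, mul_inv_cancel]
  have hRS : Q ⊔ cj g Q ≤ Four.S (Q ⊔ cj g Q) g := hF.R_le_TT.trans hF.TT_le_S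
  have h1 : cj x Q ≤ Q ⊔ cj g Q := by
    apply hF.le_R_of_card _ (hsqx h.sq) (by rw [card_cj, h.cQ])
    rw [← cj_of_mem_Nm hxN, cj_le_cj]
    exact le_sup_left.trans hRS
  rcases h.elem_eq h1 (hsqx h.sq) (by rw [card_cj, h.cQ]) with h2 | h2
  · -- `x ∈ A`
    have hxA : x ∈ A := by
      rw [← h.norm, mem_Nm]
      exact h2
    have h3 : (P : Subgroup G) ⊓ A ≤ Four.TT (Q ⊔ cj g Q) g := by
      have h4 : Four.TT (Q ⊔ cj g Q) g ≤ (P : Subgroup G) ⊓ A := le_inf (hF.TT_le_S.trans hP) h.TTA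
      have h5 := h.card_le_of_two (P.isPGroup'.to_le inf_le_left) (inf_le_right : (P : Subgroup G) ⊓ A ≤ A)
      exact (Subgroup.eq_of_le_of_card_ge h4 (by rw [h.cTT]; exact h5)).ge
    exact hxS (hF.TT_le_S (h3 ⟨hxP, hxA⟩))
  · have hxA : g⁻¹ * x ∈ A := by
      rw [← h.norm, mem_Nm, cj_mul, h2, cj_inv_cj]
    have hgS : g ∈ Four.S (Q ⊔ cj g Q) g := Subgroup.mem_sup_left (Subgroup.mem_zpowers _)
    have h3 : (P : Subgroup G) ⊓ A ≤ Four.TT (Q ⊔ cj g Q) g := by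
      have h4 : Four.TT (Q ⊔ cj g Q) g ≤ (P : Subgroup G) ⊓ A := le_inf (hF.TT_le_S.trans hP) h.TTA
      have h5 := h.card_le_of_two (P.isPGroup'.to_le inf_le_left) (inf_le_right : (P : Subgroup G) ⊓ A ≤ A)
      exact (Subgroup.eq_of_le_of_card_ge h4 (by rw [h.cTT]; exact h5)).ge
    have h6 := hF.TT_le_S (h3 ⟨Subgroup.mul_mem _ (Subgroup.inv_mem _ (hP hgS)) hxP, hxA⟩)
    apply hxS
    have h7 := Subgroup.mul_mem _ hgS h6
    rwa [mul_inv_cancel_left] at h7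

theorem no_index_two [Finite G] : ∀ M : Subgroup G, M.Normal → M.index ≠ 2 := by
  intro M hM hM2
  have hsqM : ∀ x : G, x * x ∈ M := by
    intro x
    have := Subgroup.mul_self_mem_of_index_two hM2 x
    exact this
  have hρM : ρ ∈ M := by
    have h1 : ρ = ρ * ρ * (ρ * ρ) := by
      calc ρ = ρ * ρ * ρ * ρ := by rw [h.ρ3, one_mul]
        _ = _ := by group
    rw [h1]
    exact hsqM _
  -- `Q ≤ M`
  have hQM : Q ≤ M := by
    let f : Q → Q := fun y => ⟨(y : G) * (ρ * (y : G)⁻¹ * ρ⁻¹), Q.mul_mem y.2 (conj_mem_of_Nm h.ρQ (Q.inv_mem y.2))⟩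
    have hf : Function.Injective f := by
      intro y z hyz
      have h1 : (y : G) * (ρ * (y : G)⁻¹ * ρ⁻¹) = (z : G) * (ρ * (z : G)⁻¹ * ρ⁻¹) := congrArg Subtype.val hyz
      have h2 : (z : G)⁻¹ * y * ρ = ρ * ((z : G)⁻¹ * y) := by
        have h3 : (z : G)⁻¹ * y = ρ * (z : G)⁻¹ * y * ρ⁻¹ := by
          calc (z : G)⁻¹ * y = (z : G)⁻¹ * ((y : G) * (ρ * (y : G)⁻¹ * ρ⁻¹)) * (ρ * y * ρ⁻¹) := by group
            _ = (z : G)⁻¹ * ((z : G) * (ρ * (z : G)⁻¹ * ρ⁻¹)) * (ρ * y * ρ⁻¹) := by rw [h1]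
            _ = _ := by group
        calc (z : G)⁻¹ * y * ρ = ρ * (z : G)⁻¹ * y * ρ⁻¹ * ρ := by rw [← h3]
          _ = _ := by group
      have h4 := h.fpf _ (Q.mul_mem (Q.inv_mem z.2) y.2) h2
      exact Subtype.ext (inv_mul_eq_one.1 h4).symm
    intro x hx
    obtain ⟨y, hy⟩ := (Finite.injective_iff_surjective.1 hf) ⟨x, hx⟩
    have h1 : (y : G) * (ρ * (y : G)⁻¹ * ρ⁻¹) = x := congrArg Subtype.val hy
    rw [← h1]
    have h2 : (y : G) * (ρ * (y : G)⁻¹ * ρ⁻¹) = ((y : G) * ρ * (y : G)⁻¹) * ρ⁻¹ := by group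
    rw [h2]
    exact M.mul_mem (hM.conj_mem _ hρM _) (M.inv_mem hρM)
  have hQM' : cj g Q ≤ M := by
    intro x hx
    have h1 := hM.conj_mem _ (hQM (mem_cj.1 hx)) g
    have h2 : g * (g⁻¹ * x * g) * g⁻¹ = x := by group
    rwa [h2] at h1
  have hTM : Four.TT (Q ⊔ cj g Q) g ≤ M := by
    apply sup_le _ (sup_le hQM hQM')
    rw [Subgroup.zpowers_le]
    exact hsqM g
  -- `A` is not contained in `M`
  have hAM : ¬ A ≤ M := by
    intro h1
    have h2 : M = A ∨ M = ⊤ := by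
      rcases h1.eq_or_lt with h3 | h3
      · exact Or.inl h3.symm
      · exact Or.inr (h.max.2 _ h3)
    rcases h2 with h2 | h2
    · have h3 : M ≤ A.normalCore := Subgroup.normal_le_normalCore.2 h2.le
      rw [h.core, h2] at h3
      have h4 := h.cardA
      rw [le_bot_iff.1 h3, Subgroup.card_bot] at h4
      norm_num at h4
    · rw [h2, Subgroup.index_top] at hM2
      norm_num at hM2
  have h3 : M.relIndex A = 2 := by
    have h4 : M.relIndex A ∣ 2 := by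
      rw [← hM2]
      exact Subgroup.relIndex_dvd_index_of_normal M A
    rcases (Nat.dvd_prime Nat.prime_two).1 h4 with h5 | h5
    · exact absurd (Subgroup.relIndex_eq_one.1 h5) hAM
    · exact h5
  have h4 := card_inf_mul_relIndex A M
  rw [h3, h.cardA] at h4
  have h5 : 512 ∣ Nat.card ↥(M ⊓ A) := by
    rw [← h.cTT]
    exact Subgroup.card_dvd_of_le (le_inf hTM h.TTA)
  obtain ⟨k, hk⟩ := h5
  omega

/-- **The configuration of order 23040 does not occur.** -/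
theorem false [Finite G] : False := h.four.false_of h.no_index_two h.syl

end K23040

end Cfsg.Agent.H391.Five
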